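import Mathlib

/-! An elementary lower bound for the minimal degree of a primitive group. -/

set_option autoImplicit false
set_option linter.unusedSimpArgs false
set_option linter.unusedSectionVars false
set_option linter.unusedVariables false
set_option linter.style.haveILetI false
set_option linter.flexible false

namespace Cfsg.Lib.Classical.MinDeg

open MulAction Finset
open scoped Pointwise

variable {G Ω : Type*} [Group G] [Finite G] [MulAction G Ω] [Fintype Ω] [DecidableEq Ω]

/-- Two pairs in one orbit. -/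
def Orb (G : Type*) [Group G] [MulAction G Ω] (x y u v : Ω) : Prop := ∃ h : G, h • x = u ∧ h • y = v

omit [Finite G] [Fintype Ω] [DecidableEq Ω] in
theorem orb_refl (x y : Ω) : Orb G x y x y := ⟨1, one_smul G x, one_smul G y⟩

omit [Finite G] [Fintype Ω] [DecidableEq Ω] in
theorem orb_smul {x y u v : Ω} (h : G) (e : Orb G x y u v) : Orb G x y (h • u) (h • v) := by
  obtain ⟨k, rfl, rfl⟩ := e
  exact ⟨h * k, mul_smul h k x, mul_smul h k y⟩

omit [Finite G] [Fintype Ω] [DecidableEq Ω] in
theorem orb_symm {x y u v : Ω} (e : Orb G x y u v) : Orb G u v x y := by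
  obtain ⟨k, rfl, rfl⟩ := e
  exact ⟨k⁻¹, inv_smul_smul k x, inv_smul_smul k y⟩

omit [Finite G] [Fintype Ω] [DecidableEq Ω] in
theorem orb_trans {x y u v a b : Ω} (e : Orb G x y u v) (e' : Orb G u v a b) : Orb G x y a b := by
  obtain ⟨k, rfl, rfl⟩ := e
  obtain ⟨l, rfl, rfl⟩ := e'
  exact ⟨l * k, mul_smul l k x, mul_smul l k y⟩

open scoped _root_.Classical in
/-- The points distinguishing a pair. -/
noncomputable def dset (G : Type*) [Group G] [MulAction G Ω] (x y : Ω) : Finset Ω :=
  univ.filter fun z => ¬ Orb G z x z y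

omit [Finite G] in
theorem mem_dset {x y z : Ω} : z ∈ dset G x y ↔ ¬ Orb G z x z y := by simp [dset]

omit [Finite G] in
theorem dset_subset (x y w : Ω) : dset G x w ⊆ dset G x y ∪ dset G y w := fun z hz => by
  rw [mem_union, mem_dset, mem_dset]
  by_contra h
  push Not at h
  exact mem_dset.mp hz (orb_trans h.1 h.2)

omit [Finite G] in
theorem dset_comm (x y : Ω) : dset G x y = dset G y x := by
  ext z
  rw [mem_dset, mem_dset]
  exact not_congr ⟨orb_symm, orb_symm⟩

omit [Finite G] in
theorem card_dset_triangle (x y w : Ω) : (dset G x w).card ≤ (dset G x y).card + (dset G y w).card :=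
  (card_le_card (dset_subset x y w)).trans (card_union_le _ _)

omit [Finite G] in
theorem card_dset_eq {x y u v : Ω} (e : Orb G x y u v) : (dset G u v).card = (dset G x y).card := by
  obtain ⟨h, rfl, rfl⟩ := e
  symm
  refine card_bij' (fun z _ => h • z) (fun z _ => h⁻¹ • z) ?_ ?_ (fun z _ => inv_smul_smul h z)
    (fun z _ => smul_inv_smul h z)
  · intro z hz
    rw [mem_dset] at hz ⊢
    rintro ⟨k, h1, h2⟩
    exact hz ⟨h⁻¹ * k * h, by rw [mul_smul, mul_smul, h1, inv_smul_smul], by rw [mul_smul, mul_smul, h2, inv_smul_smul]⟩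
  · intro z hz
    rw [mem_dset] at hz ⊢
    rintro ⟨k, h1, h2⟩
    exact hz ⟨h * k * h⁻¹, by
      have e : z = h • (h⁻¹ • z) := (smul_inv_smul h z).symm
      rw [mul_smul, mul_smul, h1, ← e],
      by rw [mul_smul, mul_smul, inv_smul_smul, h2]⟩

omit [Finite G] in
theorem card_dset_self (x : Ω) : (dset G x x).card = 0 := by
  rw [card_eq_zero, eq_empty_iff_forall_notMem]
  exact fun z hz => mem_dset.mp hz (orb_refl z x)

/-- A set closed under the steps of a non-diagonal orbital is everything. -/
theorem orbital_connected (hprim : IsPreprimitive G Ω) {x y : Ω} (hxy : x ≠ y) (u v : Ω) :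
    Relation.ReflTransGen (Orb G x y) u v := by
  classical
  let C : Ω → Set Ω := fun a => {b | Relation.ReflTransGen (Orb G x y) a b}
  have hsmul : ∀ (h : G) {a b : Ω}, b ∈ C a → h • b ∈ C (h • a) := fun h {a b} hb => by
    induction hb with
    | refl => exact Relation.ReflTransGen.refl
    | tail _ e ih => exact Relation.ReflTransGen.tail ih (orb_smul h e)
  have hC : ∀ (h : G) (a : Ω), C (h • a) = (h • ·) '' C a := by
    intro h a
    ext b
    refine ⟨fun hb => ⟨h⁻¹ • b, ?_, smul_inv_smul h b⟩, ?_⟩
    · simpa using hsmul h⁻¹ hb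
    · rintro ⟨c, hc, rfl⟩
      exact hsmul h hc
  have heq : ∀ {a b : Ω}, b ∈ C a → C b = C a := by
    intro a b hb
    obtain ⟨h, rfl⟩ := hprim.exists_smul_eq a b
    refine Set.eq_of_subset_of_ncard_le (fun c hc => Relation.ReflTransGen.trans hb hc) ?_ (Set.toFinite _)
    rw [hC, Set.ncard_image_of_injective _ (MulAction.injective h)]
  have hblock : IsBlock G (C x) := by
    intro h₁ h₂ hne
    rw [Set.disjoint_left]
    intro c h1 h2
    apply hne
    have e : ∀ h : G, h • C x = C (h • x) := fun h => by rw [hC]; rfl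
    rw [e] at h1 h2 ⊢
    rw [e, ← heq h1, heq h2]
  rcases hprim.isTrivialBlock_of_isBlock hblock with h | h
  · exact absurd (h Relation.ReflTransGen.refl (Relation.ReflTransGen.single (orb_refl x y) : y ∈ C x)) hxy
  · obtain ⟨k, rfl⟩ := hprim.exists_smul_eq x u
    show v ∈ C (k • x)
    rw [hC]
    exact ⟨k⁻¹ • v, h ▸ Set.mem_univ _, smul_inv_smul k v⟩

open scoped _root_.Classical in
/-- The out-neighbours in an orbital. -/
noncomputable def nbr (G : Type*) [Group G] [MulAction G Ω] (x y u : Ω) : Finset Ω :=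
  univ.filter fun v => Orb G x y u v

omit [Finite G] in
theorem mem_nbr {x y u v : Ω} : v ∈ nbr G x y u ↔ Orb G x y u v := by simp [nbr]

/-- Valency times distinguishing number bounds the degree. -/
theorem cover (hprim : IsPreprimitive G Ω) {x y : Ω} (hxy : x ≠ y) (u : Ω) :
    Fintype.card Ω ≤ (nbr G x y u).card * (dset G x y).card + 1 := by
  classical
  have hex : ∀ z, z ≠ u → ∃ v ∈ nbr G x y u, z ∈ dset G u v := by
    intro z hz
    by_contra hc
    push Not at hc
    have hall : ∀ b, Relation.ReflTransGen (Orb G x y) u b → Orb G z u z b := by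
      intro b hb
      induction hb with
      | refl => exact orb_refl z u
      | tail _ hstep ih =>
        rename_i a c _
        obtain ⟨k, hk1, hk2⟩ := ih
        have h1 : Orb G x y u (k⁻¹ • c) := by
          have := orb_smul k⁻¹ hstep
          rwa [← hk2, inv_smul_smul] at this
        have h2 : Orb G z u z (k⁻¹ • c) := by
          by_contra hn
          exact hc _ (mem_nbr.mpr h1) (mem_dset.mpr hn)
        have := orb_smul k h2
        rw [hk1, smul_inv_smul] at this
        exact this
    obtain ⟨k, hk1, hk2⟩ := hall z (orbital_connected hprim hxy u z)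
    exact hz ((smul_left_cancel k (hk1.trans hk2.symm)))
  have hsub : (univ : Finset Ω).erase u ⊆ (nbr G x y u).biUnion fun v => dset G u v := fun z hz => by
    obtain ⟨v, hv, hzv⟩ := hex z (ne_of_mem_erase hz)
    exact mem_biUnion.mpr ⟨v, hv, hzv⟩
  have h := (card_le_card hsub).trans card_biUnion_le
  rw [card_erase_of_mem (mem_univ u), card_univ, sum_congr rfl fun v hv => card_dset_eq (mem_nbr.mp hv),
    sum_const, smul_eq_mul] at h
  omega

/-- Adjacency, equality allowed, in the undirected graph of an orbital. -/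
def Adj (G : Type*) [Group G] [MulAction G Ω] (x y u v : Ω) : Prop := u = v ∨ Orb G x y u v ∨ Orb G x y v u

omit [Finite G] in
theorem card_dset_adj {x y u v : Ω} (h : Adj G x y u v) : (dset G u v).card ≤ (dset G x y).card := by
  rcases h with rfl | h | h
  · rw [card_dset_self]; exact Nat.zero_le _
  · exact (card_dset_eq h).le
  · rw [dset_comm]; exact (card_dset_eq h).le

/-- Babai's bound for groups that are not doubly transitive. -/
theorem dist_bound (hprim : IsPreprimitive G Ω) (hnot : ∀ z x : Ω, x ≠ z → ∃ w, w ≠ z ∧ ¬ Orb G z x z w)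
    {x y : Ω} (hxy : x ≠ y) : Fintype.card Ω ≤ 4 * (dset G x y).card ^ 2 + 1 := by
  classical
  set D := (dset G x y).card
  by_cases hd : ∀ u w : Ω, ∃ a, Adj G x y u a ∧ Adj G x y a w
  · -- diameter two
    have hT : ∀ u w : Ω, (dset G u w).card ≤ 2 * D := fun u w => by
      obtain ⟨a, h1, h2⟩ := hd u w
      have := card_dset_triangle (G := G) u a w
      have := card_dset_adj h1
      have := card_dset_adj h2
      omega
    have hswap : ∑ w, (dset G x w).card = ∑ z, (univ.filter fun w => ¬ Orb G z x z w).card := by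
      simp only [dset, card_filter]
      exact sum_comm
    have hup : ∑ w, (dset G x w).card ≤ (Fintype.card Ω - 1) * (2 * D) := by
      rw [← add_sum_erase univ _ (mem_univ x), card_dset_self, zero_add]
      refine (sum_le_card_nsmul _ _ _ fun w _ => hT x w).trans ?_
      rw [card_erase_of_mem (mem_univ x), card_univ, smul_eq_mul]
    have hlow : ∀ z, z ≠ x → Fintype.card Ω - 1 ≤ (univ.filter fun w => ¬ Orb G z x z w).card * (2 * D) := by
      intro z hz
      obtain ⟨w, hwz, hw⟩ := hnot z x hz.symm
      have h := cover hprim hwz.symm z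
      have hsub : nbr G z w z ⊆ univ.filter fun v => ¬ Orb G z x z v := fun v hv =>
        mem_filter.mpr ⟨mem_univ v, fun h' => hw (orb_trans h' (orb_symm (mem_nbr.mp hv)))⟩
      have h' := Nat.mul_le_mul (card_le_card hsub) (hT z w)
      omega
    have h1 : (Fintype.card Ω - 1) * (Fintype.card Ω - 1) ≤ (∑ w, (dset G x w).card) * (2 * D) := by
      rw [hswap, sum_mul]
      refine le_trans ?_ (sum_le_sum_of_subset (erase_subset x univ))
      refine le_trans ?_ (card_nsmul_le_sum _ _ _ fun z hz => hlow z (ne_of_mem_erase hz))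
      rw [card_erase_of_mem (mem_univ x), card_univ, smul_eq_mul]
    have h2 := h1.trans (Nat.mul_le_mul_right (2 * D) hup)
    rcases Nat.eq_zero_or_pos (Fintype.card Ω - 1) with h0 | h0
    · omega
    · rw [mul_assoc] at h2
      have h3 := Nat.le_of_mul_le_mul_left h2 h0
      have e : 2 * D * (2 * D) = 4 * D ^ 2 := by ring
      omega
  · -- a pair at distance three
    push Not at hd
    obtain ⟨u, w₀, hw₀⟩ := hd
    obtain ⟨a, w, ⟨b, hb1, hb2⟩, hstep, hw⟩ : ∃ a w, (∃ b, Adj G x y u b ∧ Adj G x y b a) ∧ Orb G x y a w ∧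
        ∀ b, Adj G x y u b → ¬ Adj G x y b w := by
      by_contra hc
      push Not at hc
      have hall : ∀ c, Relation.ReflTransGen (Orb G x y) u c → ∃ b, Adj G x y u b ∧ Adj G x y b c := by
        intro c hc'
        induction hc' with
        | refl => exact ⟨u, Or.inl rfl, Or.inl rfl⟩
        | tail _ hstep ih =>
          rename_i p q _
          exact hc p q ih hstep
      obtain ⟨b, h1, h2⟩ := hall w₀ (orbital_connected hprim hxy u w₀)
      exact hw₀ b h1 h2
    have h3 : (dset G u w).card ≤ 3 * D := by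
      have := card_dset_triangle (G := G) u a w
      have := card_dset_triangle (G := G) u b a
      have := card_dset_adj hb1
      have := card_dset_adj hb2
      have := card_dset_adj (Or.inr (Or.inl hstep) : Adj G x y a w)
      omega
    have hsub : nbr G x y u ⊆ dset G u w := fun z hz => mem_dset.mpr fun ⟨k, hk1, hk2⟩ => by
      have e := orb_smul k (mem_nbr.mp hz)
      rw [hk1, hk2] at e
      exact hw z (Or.inr (Or.inl (mem_nbr.mp hz))) (Or.inr (Or.inr e))
    have h := cover hprim hxy u
    have h4 := Nat.mul_le_mul_right D ((card_le_card hsub).trans h3)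
    nlinarith

/-- Fibres of an orbit map have equal size. -/
theorem fibre_card {X : Type*} [DecidableEq X] [Fintype G] (f : G → X) (s : Finset X) (hf : ∀ h, f h ∈ s)
    (hs : ∀ p ∈ s, ∀ q ∈ s, ∃ k : G, ∀ h, f h = p ↔ f (k * h) = q) {p : X} (hp : p ∈ s) :
    s.card * ((univ : Finset G).filter fun h => f h = p).card = Fintype.card G := by
  classical
  rw [← card_univ (α := G), card_eq_sum_card_fiberwise (f := f) (s := (univ : Finset G)) (t := s) fun h _ => hf h,
    ← smul_eq_mul, ← sum_const]
  refine sum_congr rfl fun q hq => ?_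
  obtain ⟨k, hk⟩ := hs p hp q hq
  exact card_equiv (Equiv.mulLeft k) fun h => by simp [hk]

/-- In a doubly transitive group a small set meets some translate in exactly one point. -/
theorem exists_single [Fintype G] (h2 : ∀ a b c d : Ω, a ≠ b → c ≠ d → ∃ h : G, h • a = c ∧ h • b = d)
    (ht : IsPretransitive G Ω) (S : Finset Ω) (hS : S.Nonempty)
    (hsmall : (S.card - 1) ^ 2 < Fintype.card Ω - 1) :
    ∃ h : G, (S.filter fun a => h • a ∈ S).card = 1 := by
  classical
  set n := Fintype.card Ω
  set m := S.card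
  set I : G → Finset Ω := fun h => S.filter fun a => h • a ∈ S
  by_contra hc
  push Not at hc
  have hsum : n * ∑ h, (I h).card = m * m * Fintype.card G := by
    have e : ∑ h, (I h).card = ∑ p ∈ S ×ˢ S, (univ.filter fun h : G => h • p.1 = p.2).card := by
      rw [sum_product]
      simp only [I, card_filter]
      rw [sum_comm]
      refine sum_congr rfl fun a _ => ?_
      conv_rhs => rw [sum_comm]
      refine sum_congr rfl fun h _ => ?_
      rw [sum_ite_eq]
    rw [e, mul_sum, sum_congr rfl (g := fun _ => Fintype.card G) fun p _ => ?_, sum_const, card_product, smul_eq_mul]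
    rw [show n = (univ : Finset Ω).card from card_univ.symm]
    refine fibre_card (fun h : G => h • p.1) univ (fun _ => mem_univ _) (fun a _ b _ => ?_) (mem_univ p.2)
    obtain ⟨k, hk⟩ := ht.exists_smul_eq a b
    exact ⟨k, fun h => by rw [mul_smul, ← hk, smul_left_cancel_iff]⟩
  have hoff : (univ : Finset Ω).offDiag.card * ∑ h, (I h).offDiag.card = S.offDiag.card * S.offDiag.card * Fintype.card G := by
    have e : ∑ h, (I h).offDiag.card =
        ∑ p ∈ S.offDiag ×ˢ S.offDiag, (univ.filter fun h : G => ((h • p.1.1, h • p.1.2) : Ω × Ω) = p.2).card := by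
      rw [sum_product]
      have : ∀ h, (I h).offDiag = S.offDiag.filter fun p => ((h • p.1, h • p.2) : Ω × Ω) ∈ S.offDiag := fun h => by
        ext p
        simp [I, mem_offDiag]
        tauto
      simp only [this, card_filter]
      rw [sum_comm]
      refine sum_congr rfl fun a _ => ?_
      conv_rhs => rw [sum_comm]
      refine sum_congr rfl fun h _ => ?_
      rw [sum_ite_eq]
    rw [e, mul_sum, sum_congr rfl (g := fun _ => Fintype.card G) fun p hp => ?_, sum_const, card_product, smul_eq_mul]
    have hp' := mem_offDiag.mp (mem_product.mp hp).1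
    refine fibre_card (fun h : G => ((h • p.1.1, h • p.1.2) : Ω × Ω)) _ (fun h => ?_) (fun a ha b hb => ?_)
      (mem_offDiag.mpr ⟨mem_univ _, mem_univ _, (mem_offDiag.mp (mem_product.mp hp).2).2.2⟩)
    · exact mem_offDiag.mpr ⟨mem_univ _, mem_univ _, fun h' => hp'.2.2 (smul_left_cancel h h')⟩
    · obtain ⟨k, hk1, hk2⟩ := h2 a.1 a.2 b.1 b.2 (mem_offDiag.mp ha).2.2 (mem_offDiag.mp hb).2.2
      refine ⟨k, fun h => ?_⟩
      simp only [Prod.ext_iff, mul_smul, ← hk1, ← hk2, smul_left_cancel_iff]
  have hle : ∑ h, (I h).card ≤ ∑ h, (I h).offDiag.card := sum_le_sum fun k _ => by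
    rw [offDiag_card]
    have h1 : (I k).card ≠ 1 := hc k
    rcases Nat.lt_or_ge (I k).card 2 with h | h
    · omega
    · have := Nat.mul_le_mul_right (I k).card h
      omega
  rw [offDiag_card, offDiag_card, card_univ] at hoff
  have hG : 0 < Fintype.card G := Fintype.card_pos
  have hm : 0 < m := card_pos.mpr hS
  have e1 : n * n - n = n * (n - 1) := by rw [Nat.mul_sub_one]
  have e2 : m * m - m = m * (m - 1) := by rw [Nat.mul_sub_one]
  rw [e1, e2] at hoff
  have h5 : (n - 1) * (m * m * Fintype.card G) ≤ m * (m - 1) * (m * (m - 1)) * Fintype.card G := by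
    rw [← hsum, ← hoff]
    calc (n - 1) * (n * ∑ h, (I h).card) = n * (n - 1) * ∑ h, (I h).card := by ring
      _ ≤ _ := Nat.mul_le_mul_left _ hle
  have h6 : (m * m * Fintype.card G) * (n - 1) ≤ (m * m * Fintype.card G) * (m - 1) ^ 2 := by
    calc (m * m * Fintype.card G) * (n - 1) ≤ m * (m - 1) * (m * (m - 1)) * Fintype.card G := by linarith
      _ = _ := by ring
  exact absurd (Nat.le_of_mul_le_mul_left h6 (by positivity)) (not_le.mpr hsmall)

/-- Two permutations whose supports meet in one point give a three-cycle. -/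
theorem isThreeCycle_commutator {σ τ : Equiv.Perm Ω} {p : Ω} (h : σ.support ∩ τ.support = {p}) :
    (σ * τ * σ⁻¹ * τ⁻¹).IsThreeCycle := by
  have hp : p ∈ σ.support ∧ p ∈ τ.support := mem_inter.mp (h ▸ mem_singleton_self p)
  have honly : ∀ z, σ z ≠ z → τ z ≠ z → z = p := fun z h1 h2 => mem_singleton.mp
    (h ▸ mem_inter.mpr ⟨Equiv.Perm.mem_support.mpr h1, Equiv.Perm.mem_support.mpr h2⟩)
  have hσp := Equiv.Perm.mem_support.mp hp.1
  have hτp := Equiv.Perm.mem_support.mp hp.2
  set c := σ * τ * σ⁻¹ * τ⁻¹
  have hfix : ∀ z, z ≠ p → z ≠ σ p → z ≠ τ p → c z = z := by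
    intro z hz hzσ hzτ
    show σ (τ (σ⁻¹ (τ⁻¹ z))) = z
    by_cases hτz : τ z = z
    · have e : τ⁻¹ z = z := Equiv.Perm.inv_eq_iff_eq.mpr hτz.symm
      rw [e]
      set w := σ⁻¹ z
      have hw : σ w = z := Equiv.Perm.eq_inv_iff_eq.mp rfl
      have : τ w = w := by
        by_contra hne
        by_cases hσw : σ w = w
        · exact hne (by rw [show w = z from hσw.symm.trans hw, hτz])
        · exact hzσ (by rw [← hw, honly w hσw hne])
      rw [this, hw]
    · have hσz : σ z = z := by
        by_contra hne
        exact hz (honly z hne hτz)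
      set w := τ⁻¹ z
      have hw : τ w = z := Equiv.Perm.eq_inv_iff_eq.mp rfl
      have hσw : σ w = w := by
        by_contra hne
        refine hzτ ?_
        have hwp : w = p := honly w hne fun e => hτz (by
          have e' : w = z := e.symm.trans hw
          exact e' ▸ e)
        rw [← hw, hwp]
      rw [show σ⁻¹ w = w from Equiv.Perm.inv_eq_iff_eq.mpr hσw.symm, hw, hσz]
  have hsub : c.support ⊆ {p, σ p, τ p} := fun z hz => by
    simp only [mem_insert, mem_singleton]
    by_contra hc
    push Not at hc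
    exact Equiv.Perm.mem_support.mp hz (hfix z hc.1 hc.2.1 hc.2.2)
  have h1 : τ (σ p) = σ p := by
    by_contra hne
    exact hσp (honly _ (fun e => hσp (σ.injective e)) hne)
  have h2 : σ (τ p) = τ p := by
    by_contra hne
    exact hτp (honly _ hne fun e => hτp (τ.injective e))
  have hne : c ≠ 1 := fun e => by
    have e' : σ * τ = τ * σ := by
      rw [← mul_inv_eq_one, mul_inv_rev, ← mul_assoc]
      exact e
    have := Equiv.Perm.congr_fun e' p
    simp only [Equiv.Perm.mul_apply, h1, h2] at this
    exact hτp (honly (τ p) (by rw [this]; exact fun e'' => hσp (σ.injective e'')) fun e'' => hτp (τ.injective e''))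
  rw [← card_support_eq_three_iff]
  have hle : c.support.card ≤ 3 := (card_le_card hsub).trans card_le_three
  rcases Nat.lt_or_ge c.support.card 3 with hlt | hge
  · exfalso
    have hnot : c.support.card ≠ 0 := fun e => hne (Equiv.Perm.card_support_eq_zero.mp e)
    have hsw : c.IsSwap := Equiv.Perm.card_support_eq_two.mp (by
      have := c.card_support_ne_one
      omega)
    have := hsw.sign_eq
    simp [c, map_mul, map_inv] at this
    rcases Int.units_eq_one_or (Equiv.Perm.sign σ) with a | a <;>
      rcases Int.units_eq_one_or (Equiv.Perm.sign τ) with b | b <;> simp [a, b] at this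
  · omega

/-- The bound on the number of moved points. -/
theorem moved_bound [FaithfulSMul G Ω] (hprim : IsPreprimitive G Ω)
    (hA : ¬ alternatingGroup Ω ≤ (MulAction.toPermHom G Ω).range) (g : G) (hg : g ≠ 1) :
    Fintype.card Ω ≤ (2 * (univ.filter fun a : Ω => g • a ≠ a).card + 1) ^ 2 := by
  classical
  set S := univ.filter fun a : Ω => g • a ≠ a
  obtain ⟨x, hx⟩ : ∃ x : Ω, g • x ≠ x := by
    by_contra hc
    push Not at hc
    exact hg (eq_of_smul_eq_smul fun a : Ω => by rw [hc a, one_smul])
  by_cases hnot : ∀ z a : Ω, a ≠ z → ∃ w, w ≠ z ∧ ¬ Orb G z a z w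
  · have h := dist_bound hprim hnot (Ne.symm hx)
    have hsub : dset G x (g • x) ⊆ S := fun z hz => mem_filter.mpr ⟨mem_univ z, fun e => mem_dset.mp hz ⟨g, e, rfl⟩⟩
    have := card_le_card hsub
    nlinarith
  · push Not at hnot
    obtain ⟨z, a, haz, hall⟩ := hnot
    have h2 : ∀ b c d e : Ω, b ≠ c → d ≠ e → ∃ h : G, h • b = d ∧ h • c = e := by
      have key : ∀ b c : Ω, b ≠ c → Orb G z a b c := by
        intro b c hbc
        obtain ⟨k, rfl⟩ := hprim.exists_smul_eq z b
        have h := orb_smul k (hall (k⁻¹ • c) fun e => hbc (by rw [← e, smul_inv_smul]))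
        rwa [smul_inv_smul] at h
      exact fun b c d e h h' => orb_trans (orb_symm (key b c h)) (key d e h')
    have := Fintype.ofFinite G
    by_contra hc
    have hx' : x ∈ S := mem_filter.mpr ⟨mem_univ x, hx⟩
    obtain ⟨h, hh⟩ := exists_single h2 hprim.toIsPretransitive S ⟨x, hx'⟩ (by
      have h1 : 1 ≤ S.card := card_pos.mpr ⟨x, hx'⟩
      have h2' : (2 * S.card + 1) ^ 2 = 4 * (S.card * S.card) + 4 * S.card + 1 := by ring
      have h3 : (S.card - 1) ^ 2 ≤ S.card * S.card := by
        rw [sq]; exact Nat.mul_le_mul (Nat.sub_le _ _) (Nat.sub_le _ _)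
      omega)
    obtain ⟨p, hp⟩ := card_eq_one.mp hh
    let φ := MulAction.toPermHom G Ω
    have hsupp : (φ g).support ∩ (φ (h * g * h⁻¹)).support = {h • p} := by
      ext w
      have hw : w = h • p ↔ h⁻¹ • w = p := inv_smul_eq_iff.symm
      have hiff : h⁻¹ • w = p ↔ h⁻¹ • w ∈ S ∧ h • (h⁻¹ • w) ∈ S := by
        rw [← mem_singleton, ← hp, mem_filter]
      rw [mem_inter, Equiv.Perm.mem_support, Equiv.Perm.mem_support, mem_singleton, hw, hiff, smul_inv_smul]
      simp only [φ, MulAction.toPermHom_apply, MulAction.toPerm_apply, S, mem_filter, mem_univ, true_and, mul_smul,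
        ne_eq, smul_eq_iff_eq_inv_smul h]
      exact and_comm
    have hrange : IsPreprimitive φ.range Ω :=
      { exists_smul_eq := fun b c => by
          obtain ⟨k, hk⟩ := hprim.exists_smul_eq b c
          exact ⟨⟨φ k, k, rfl⟩, hk⟩
        isTrivialBlock_of_isBlock := fun {B} hB => hprim.isTrivialBlock_of_isBlock fun k l hkl =>
          hB (g₁ := (⟨φ k, k, rfl⟩ : φ.range)) (g₂ := (⟨φ l, l, rfl⟩ : φ.range)) hkl }
    exact hA (Equiv.Perm.alternatingGroup_le_of_isPreprimitive_of_isThreeCycle_mem hrange
      (isThreeCycle_commutator hsupp)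
      (mul_mem (mul_mem (mul_mem ⟨g, rfl⟩ ⟨_, rfl⟩) (inv_mem ⟨g, rfl⟩)) (inv_mem ⟨_, rfl⟩)))

end Cfsg.Lib.Classical.MinDeg
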